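import Cfsg.Agent.Lib.LocalEven.J3InvolGroup
import Cfsg.Agent.Lib.KnownB.Mult.Levels

/-!
Computable codes for the triple cover of the third Janko group: eighteen columns, with membership
given by straight-line programs in the seven chosen generators, and the action on vector codes.
-/

set_option autoImplicit false
set_option maxRecDepth 100000

namespace CfsgLib.KnownB.Mult.J3

open Cfsg Cfsg.Spor Matrix CfsgLib.LocalEven.J3Lines
open scoped MatrixGroups

attribute [local irreducible] bits1 bits2 bitsV el1 el2 getB getW app genCols genWords vec1 vec2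
  par1 par2 loTbl hiTbl parTbl genOrd orbsTbl owordsTbl patsTbl witU witKey base baseCoef cycCoef

/-- a step of a straight-line program: a generator, or the product of two earlier entries -/
def stepOK (T : List (List ℕ)) (k : ℕ) (s : ℕ × ℕ × ℕ) : Bool :=
  bif Nat.beq s.1 0 then
    Nat.blt s.2.1 8 && eqL (T.getD k []) (wordCols (bif Nat.blt s.2.1 7 then [s.2.1] else []))
  else Nat.blt s.2.1 k && Nat.blt s.2.2 k &&
    eqL (T.getD k []) (mulL (T.getD s.2.1 []) (T.getD s.2.2 []))

/-- a program computing a table -/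
def slpOK (T : List (List ℕ)) (P : List (ℕ × ℕ × ℕ)) : Bool :=
  Nat.beq T.length P.length && (List.range T.length).all fun k => stepOK T k (P.getD k (0, 0, 0))

variable {F : Type*} [Field F] [Fintype F] {ω : F}

theorem exists_of_slp (h : Four F ω) {T : List (List ℕ)} {P : List (ℕ × ℕ × ℕ)}
    (hT : slpOK T P = true) : ∀ {k : ℕ}, k < T.length →
      ∃ g : threeJ3 F ω, Cols F ω ((g : GL F9 F) : Matrix F9 F9 F) (T.getD k []) := by
  simp only [slpOK, Bool.and_eq_true, List.all_eq_true, List.mem_range] at hT
  intro k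
  induction k using Nat.strong_induction_on with
  | _ k ih =>
    intro hk
    have hs := hT.2 k hk
    rw [stepOK] at hs
    cases hb : Nat.beq (P.getD k (0, 0, 0)).1 0
    · simp only [hb, cond_false, Bool.and_eq_true, Nat.blt_eq, eqL_iff] at hs
      obtain ⟨⟨ha, hc⟩, e⟩ := hs
      obtain ⟨g, hg⟩ := ih _ ha (lt_trans ha hk)
      obtain ⟨g', hg'⟩ := ih _ hc (lt_trans hc hk)
      exact ⟨g * g', by rw [e]; exact hg.mul h hg'⟩
    · simp only [hb, cond_true, Bool.and_eq_true, eqL_iff] at hs
      have hw : ∀ j ∈ (bif Nat.blt (P.getD k (0, 0, 0)).2.1 7 then [(P.getD k (0, 0, 0)).2.1] else []),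
          j < 7 := by
        cases hj : Nat.blt (P.getD k (0, 0, 0)).2.1 7
        · simp
        · simp only [cond_true, List.mem_singleton, forall_eq]
          exact Nat.blt_eq.mp hj
      obtain ⟨g, hg, e⟩ := exists_word h _ hw
      refine ⟨⟨g, selGrp_le h hg⟩, ?_⟩
      show Cols F ω (g : Matrix F9 F9 F) _
      rw [hs.2, e]
      exact Cols.word h hw

/-- the code attached to a table -/
def code (h : Four F ω) (T : List (List ℕ)) (P : List (ℕ × ℕ × ℕ)) (hT : slpOK T P = true) :
    Code (threeJ3 F ω) (List ℕ) where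
  rep g x := Cols F ω ((g : GL F9 F) : Matrix F9 F9 F) x
  mul := mulL
  one := idCols
  eqc := eqL
  okc x := T.any (eqL x)
  rep_mul := fun ha hb => ha.mul h hb
  rep_one := Cols.one
  eq_iff {a b x y} ha hb := by
    rw [eqL_iff]
    constructor
    · rintro rfl
      exact Subtype.ext (Units.ext (ha.eq h hb))
    · rintro rfl
      exact ha.unique h hb
  exists_rep {x} hx := by
    obtain ⟨y, hy, he⟩ := List.any_eq_true.1 hx
    rw [eqL_iff] at he
    subst he
    obtain ⟨k, hk, rfl⟩ := List.getElem_of_mem hy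
    rw [← List.getD_eq_getElem _ [] hk]
    exact exists_of_slp h hT hk

/-- a code applied to a point -/
def appP (x : List ℕ) (v : ℕ) : ℕ := bif Nat.blt v 262144 then imgL x v else v

/-- the code of a vector -/
noncomputable def encF (h : Four F ω) (f : F9 → F) : ℕ := (exists_code h f).choose

theorem encF_spec (h : Four F ω) (f : F9 → F) : encF h f < 262144 ∧ dec F ω (encF h f) = f :=
  (exists_code h f).choose_spec

theorem encF_dec (h : Four F ω) {v : ℕ} (hv : v < 262144) : encF h (dec F ω v) = v :=
  dec_inj h (encF_spec h _).1 hv (encF_spec h _).2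

/-- the action on vector codes -/
noncomputable def ptAct (h : Four F ω) : PtAct (threeJ3 F ω) ℕ where
  act g v := if v < 262144 then
    encF h (((g : GL F9 F) : Matrix F9 F9 F) *ᵥ dec F ω v) else v
  act_mul g g' v := by
    by_cases hv : v < 262144
    · have h1 := encF_spec h (((g' : GL F9 F) : Matrix F9 F9 F) *ᵥ dec F ω v)
      simp only [if_pos hv, if_pos h1.1, h1.2, mulVec_mulVec]
      rfl
    · simp only [if_neg hv]
  act_one v := by
    by_cases hv : v < 262144
    · simp [if_pos hv, encF_dec h hv]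
    · simp only [if_neg hv]

theorem ptAct_app (h : Four F ω) {g : threeJ3 F ω} {x : List ℕ}
    (hx : Cols F ω ((g : GL F9 F) : Matrix F9 F9 F) x) (v : ℕ) :
    (ptAct h).act g v = appP x v := by
  simp only [ptAct, appP]
  by_cases hv : v < 262144
  · obtain ⟨h1, h2⟩ := hx.app h hv
    rw [if_pos hv, show Nat.blt v 262144 = true by rw [Nat.blt_eq]; exact hv, cond_true, h2]
    exact encF_dec h h1
  · have hb : Nat.blt v 262144 = false := by
      rw [← Bool.not_eq_true, Nat.blt_eq]; exact hv
    rw [if_neg hv, hb, cond_false]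

end CfsgLib.KnownB.Mult.J3

namespace CfsgLib.KnownB.Mult.J3

open Cfsg Cfsg.Spor Matrix CfsgLib.LocalEven.J3Lines
open scoped MatrixGroups

theorem exists_four : ∃ ω : GaloisField 2 2,
    @Four (GaloisField 2 2) _ ω (Fintype.ofFinite _) := by
  letI : Fintype (GaloisField 2 2) := Fintype.ofFinite _
  classical
  have hc : Fintype.card (GaloisField 2 2) = 4 := by
    rw [← Nat.card_eq_fintype_card, GaloisField.card 2 2 (by norm_num)]
    norm_num
  obtain ⟨a, ha⟩ : ∃ a : GaloisField 2 2, a ∉ ({0, 1} : Finset (GaloisField 2 2)) := by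
    by_contra hne
    push_neg at hne
    have h1 := Finset.card_le_card (fun x (_ : x ∈ (Finset.univ : Finset (GaloisField 2 2))) => hne x)
    have h2 := Finset.card_le_two (a := (0 : GaloisField 2 2)) (b := 1)
    rw [Finset.card_univ, hc] at h1
    omega
  simp only [Finset.mem_insert, Finset.mem_singleton, not_or] at ha
  refine ⟨a, hc, ?_⟩
  have h3 : a ^ 3 = 1 := by
    have := FiniteField.pow_card_sub_one_eq_one a ha.1
    rwa [hc] at this
  have hz : (a - 1) * (a ^ 2 + a + 1) = 0 := by linear_combination h3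
  exact (mul_eq_zero.1 hz).resolve_left (sub_ne_zero.2 ha.2)

/-- a field with four elements -/
abbrev F0 : Type := GaloisField 2 2

noncomputable instance : Fintype F0 := Fintype.ofFinite _

/-- a cube root of unity -/
noncomputable def w0 : F0 := exists_four.choose

theorem four0 : Four F0 w0 := exists_four.choose_spec

/-- codes over the chosen field, for computations -/
noncomputable def code0 (T : List (List ℕ)) (P : List (ℕ × ℕ × ℕ)) (hT : slpOK T P = true) :
    Code (threeJ3 F0 w0) (List ℕ) :=
  code four0 T P hT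

variable {F : Type*} [Field F] [Fintype F] {ω : F}

theorem core_congr {Q Q' : Type*} [Group Q] [Group Q'] {C : Type} {K : Code Q C} {K' : Code Q' C}
    (h1 : K.mul = K'.mul) (h2 : K.one = K'.one) (h3 : K.eqc = K'.eqc) (h4 : K.okc = K'.okc)
    {c : Cert C} {p : ℕ} (hc : c.Core K p) : c.Core K' p := by
  obtain ⟨rep, mul, one, eqc, okc, _, _, _, _⟩ := K
  obtain ⟨rep', mul', one', eqc', okc', _, _, _, _⟩ := K'
  subst h1 h2 h3 h4
  exact ⟨hc.gen, hc.rel, hc.pc, hc.rows, hc.target⟩

universe uA uB

theorem nodupB_congr {P : Type} (eqp : P → P → Bool) : ∀ l : List P,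
    Cert.levelsOK.nodupB.{uA} eqp l = Cert.levelsOK.nodupB.{uB} eqp l
  | [] => rfl
  | a :: l => by rw [Cert.levelsOK.nodupB, Cert.levelsOK.nodupB, nodupB_congr eqp l]

theorem levels_congr {Q : Type uA} {Q' : Type uB} [Group Q] [Group Q'] {C P : Type} {K : Code Q C} {K' : Code Q' C}
    (h2 : K.one = K'.one) {c : Cert C} {app : C → P → P} {eqp : P → P → Bool} :
    ∀ {L : List (P × List (List ℕ))} {prev : List P}, Cert.levelsOK K c app eqp L prev = true →
      Cert.levelsOK K' c app eqp L prev = true
  | [], _, _ => rfl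
  | (b, T) :: r, prev, h => by
    have hs : ∀ a, c.σc K a = c.σc K' a := fun a => by rw [Cert.σc, Cert.σc, h2]
    simp only [Cert.levelsOK, Bool.and_eq_true] at h ⊢
    simp only [← hs, ← nodupB_congr.{uA, uB}]
    exact ⟨h.1, levels_congr h2 h.2⟩

theorem primeCond_of_tables (h : Four F ω) {T : List (List ℕ)} {P : List (ℕ × ℕ × ℕ)}
    {hT : slpOK T P = true} {p : ℕ} [Fact p.Prime] (c : Cert (List ℕ))
    (hc : c.Core (code0 T P hT) p) (L : List (ℕ × List (List ℕ)))
    (hL : Cert.levelsOK (code0 T P hT) c appP Nat.beq L [] = true)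
    (hprod : p ^ c.n ≤ (L.map fun l => l.2.length).prod) {m : ℕ}
    (hN : Nat.card (threeJ3 F ω) = p ^ c.n * m) (hm : ¬ p ∣ m) : PrimeCond (threeJ3 F ω) p :=
  Cert.primeCond_of_notMem (core_congr (K := code0 T P hT) (K' := code h T P hT) rfl rfl rfl rfl hc)
    (Cert.notMem_of_levels (core_congr (K := code0 T P hT) (K' := code h T P hT) rfl rfl rfl rfl hc) (ptAct h) appP Nat.beq (fun hr v => ptAct_app h hr v)
      (fun _ _ => Nat.beq_eq ▸ Iff.rfl) L (levels_congr (K := code0 T P hT) (K' := code h T P hT) rfl hL) hprod) hN hm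

end CfsgLib.KnownB.Mult.J3
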