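import Cfsg.Agent.Lib.KnownB.Mult.J3.P2Table

/-! Certificate at 2 for the multiplier of 3·J₃. -/

set_option autoImplicit false
set_option maxRecDepth 100000
set_option Elab.async false

namespace CfsgLib.KnownB.Mult.J3.P2

open CfsgLib.KnownB.Mult Cfsg.Spor CfsgLib.LocalEven.J3Lines

/-- the certificate -/
def cert : Cert (List ℕ) where
  n := 7
  σ := [[137536, 208512, 242374, 119627, 229156, 103736, 161984, 236608, 48838, 55115, 182940, 217060, 141452, 212164, 4208, 8336, 199682, 66563],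
    [101105, 184146, 168512, 254848, 222034, 111011, 50518, 19115, 186735, 224949, 201539, 74113, 152884, 240152, 201375, 74725, 47917, 56630],
    [242374, 119627, 157812, 244888, 171951, 255477, 147501, 229430, 253862, 91643, 229154, 103731, 148650, 231679, 95664, 170704, 128203, 153677],
    [165377, 248578, 3492, 1784, 258076, 86052, 95820, 170884, 46535, 55881, 102729, 189070, 251552, 93168, 208739, 79281, 107619, 194737],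
    [118960, 155856, 132521, 199422, 204229, 75338, 120204, 158404, 16553, 33022, 147087, 202693, 117251, 151297, 7996, 9492, 148924, 232148],
    [149321, 231822, 49719, 17177, 226264, 102764, 213281, 98866, 69998, 139959, 28673, 36866, 2336, 3632, 148569, 231598, 49571, 17137],
    [255196, 96356, 25138, 45843, 67289, 133998, 175650, 259891, 100860, 183892, 95121, 168418, 153807, 240709, 202694, 76107, 46546, 55907]]
  rules := [([0, 0], [2, 4]),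
    ([1, 1], []),
    ([2, 2], [6]),
    ([3, 3], []),
    ([4, 4], [6]),
    ([5, 5], []),
    ([6, 6], []),
    ([1, 0], [0, 1, 2, 4, 5, 6]),
    ([2, 0], [0, 2, 5]),
    ([3, 0], [0, 3, 4, 5, 6]),
    ([4, 0], [0, 4, 5]),
    ([5, 0], [0, 5, 6]),
    ([6, 0], [0, 6]),
    ([2, 1], [1, 2, 6]),
    ([3, 1], [1, 3, 4, 6]),
    ([4, 1], [1, 4, 6]),
    ([5, 1], [1, 5, 6]),
    ([6, 1], [1, 6]),
    ([3, 2], [2, 3, 5, 6]),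
    ([4, 2], [2, 4, 6]),
    ([5, 2], [2, 5]),
    ([6, 2], [2, 6]),
    ([4, 3], [3, 4, 6]),
    ([5, 3], [3, 5]),
    ([6, 3], [3, 6]),
    ([5, 4], [4, 5]),
    ([6, 4], [4, 6]),
    ([6, 5], [5, 6])]
  conjs := [([111386, 184623, 71027, 141969, 172489, 258638, 133298, 199891, 65341, 21782, 234892, 125636, 44404, 63128, 133499, 200349, 140534, 211035], [1], [1, 4]),
    ([111386, 184623, 71027, 141969, 172489, 258638, 133298, 199891, 65341, 21782, 234892, 125636, 44404, 63128, 133499, 200349, 140534, 211035], [2], [2, 4]),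
    ([111386, 184623, 71027, 141969, 172489, 258638, 133298, 199891, 65341, 21782, 234892, 125636, 44404, 63128, 133499, 200349, 140534, 211035], [4], [1, 4, 5]),
    ([111386, 184623, 71027, 141969, 172489, 258638, 133298, 199891, 65341, 21782, 234892, 125636, 44404, 63128, 133499, 200349, 140534, 211035], [5], [1]),
    ([2124, 3204, 16460, 32900, 12323, 4145, 18444, 35844, 18496, 35968, 73744, 143392, 196657, 65554, 73730, 143363, 512, 768], [5], [0, 1, 4, 5, 6]),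
    ([2124, 3204, 16460, 32900, 12323, 4145, 18444, 35844, 18496, 35968, 73744, 143392, 196657, 65554, 73730, 143363, 512, 768], [6], [3, 4, 5]),
    ([2124, 3204, 16460, 32900, 12323, 4145, 18444, 35844, 18496, 35968, 73744, 143392, 196657, 65554, 73730, 143363, 512, 768], [3, 4], [3, 4]),
    ([2124, 3204, 16460, 32900, 12323, 4145, 18444, 35844, 18496, 35968, 73744, 143392, 196657, 65554, 73730, 143363, 512, 768], [0, 1, 3], [0, 1, 3])]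
  rows := [(.ovl [0] 0 [], [0, 0, 0, 0, 0, 1, 0, 0, 1, 0, 1, 0, 0, 0, 0, 0, 0, 0, 0, 0, 0, 0, 0, 0, 0, 1]),
    (.ovl [1] 0 [], [0, 0, 1, 0, 1, 0, 0, 0, 1, 0, 1, 1, 1, 1, 0, 1, 0, 0, 0, 1, 1, 0, 0, 0, 0, 0, 0, 1]),
    (.ovl [2] 0 [], [0, 0, 0, 0, 0, 1, 1, 0, 0, 0, 0, 1, 0, 0, 0, 0, 0, 0, 0, 1, 0, 0, 0, 0, 0, 0, 0]),
    (.ovl [3] 0 [], [0, 0, 0, 0, 1, 1, 0, 0, 0, 0, 1, 1, 1, 0, 0, 0, 0, 0, 1, 0, 0, 0, 1, 0, 0, 0, 1, 0]),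
    (.ovl [4] 0 [], [0, 0, 0, 0, 0, 1, 0, 0, 0, 0, 0, 1, 0, 0, 0, 0, 0, 0, 0, 1, 0, 0, 0, 0, 0, 0, 1, 0]),
    (.ovl [5] 0 [], [0, 0, 0, 0, 0, 0, 1, 0, 0, 0, 0, 0, 1, 0, 0, 0, 0, 0, 0, 0, 1, 0, 0, 0, 0, 1]),
    (.ovl [6] 0 [], [0, 0, 0, 0, 0, 0, 0, 0, 0, 0, 0, 0, 0, 0, 0, 0, 0, 0, 0, 0, 0, 1, 0, 0, 0, 0, 1]),
    (.ovl [2] 1 [], [0, 0, 0, 0, 0, 0, 1, 0, 0, 0, 0, 0, 0, 0, 0, 0, 0, 1]),
    (.ovl [3] 1 [], [0, 0, 0, 0, 1, 0, 0, 0, 0, 0, 0, 0, 0, 0, 0, 1, 0, 1, 0, 0, 0, 0, 0, 0, 0, 0, 1]),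
    (.ovl [2] 2 [], [0, 0, 0, 0, 0, 0, 0, 0, 0, 0, 0, 0, 0, 0, 0, 0, 0, 0, 0, 0, 0, 1]),
    (.ovl [3] 2 [], [0, 0, 0, 0, 0, 1, 1, 0, 0, 0, 0, 0, 0, 0, 0, 0, 0, 0, 0, 0, 1, 1, 0, 0, 1, 0, 0, 1]),
    (.ovl [5] 2 [], [0, 0, 0, 0, 0, 0, 0, 0, 0, 0, 0, 0, 0, 0, 0, 0, 0, 0, 0, 0, 0, 0, 0, 0, 0, 0, 0, 1]),
    (.ovl [4] 3 [], [0, 0, 0, 0, 0, 0, 1, 0, 0, 0, 0, 0, 0, 0, 0, 0, 0, 0, 0, 0, 0, 0, 0, 0, 1]),
    (.ovl [1] 7 [], [0, 0, 1, 0, 1, 1, 0, 0, 0, 0, 0, 0, 0, 1, 0, 1, 1, 1, 0, 1, 1, 0, 0, 0, 0, 1, 0, 0]),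
    (.ovl [2] 7 [], [0, 0, 0, 0, 0, 0, 0, 0, 0, 0, 0, 0, 1, 0, 0, 0, 1, 0, 0, 1, 0, 1, 0, 0, 0, 1, 0, 0]),
    (.ovl [3] 7 [], [0, 0, 0, 0, 0, 0, 1, 0, 0, 0, 1, 0, 1, 0, 0, 1, 1, 1, 1, 0, 1, 1, 1, 1, 1, 1, 1, 1]),
    (.ovl [3] 8 [], [0, 0, 0, 0, 0, 0, 0, 0, 0, 0, 0, 1, 1, 0, 0, 0, 0, 0, 0, 1, 1, 1, 0, 1, 0, 0, 1, 0]),
    (.ovl [3] 9 [], [0, 0, 0, 0, 1, 1, 0, 0, 0, 0, 0, 0, 0, 0, 0, 0, 0, 0, 0, 0, 0, 0, 1, 1, 1, 1, 0, 1]),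
    (.cnj 0 [2, 2] [1, 1], [0, 1, 0, 0, 1, 1, 0, 0, 0, 0, 0, 0, 0, 0, 0, 1, 1, 0, 0, 1, 0, 0, 0, 0, 0, 1, 1, 1, 0, 0, 0]),
    (.cnj 0 [3, 1] [1, 3], [0, 0, 0, 0, 0, 0, 1, 0, 0, 0, 0, 0, 0, 1, 0, 1, 0, 0, 0, 0, 1, 0, 0, 0, 0, 0, 1, 0, 0, 0, 0, 0]),
    (.cnj 0 [3, 2] [2, 3], [0, 0, 0, 0, 0, 0, 1, 0, 0, 0, 0, 0, 0, 0, 0, 1, 1, 0, 0, 0, 0, 0, 0, 0, 0, 1, 0, 1, 0, 0, 0, 0]),
    (.cnj 4 [4, 4] [], [1, 1, 1, 0, 0, 1, 0, 1, 0, 0, 1, 1, 1, 1, 0, 0, 1, 0, 0, 1, 0, 0, 0, 0, 0, 0, 0, 0, 0, 0, 0, 0, 0]),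
    (.cnj 4 [5, 4] [4, 5], [0, 0, 0, 0, 1, 1, 0, 0, 0, 1, 1, 1, 0, 0, 1, 0, 1, 1, 0, 0, 0, 0, 1, 1, 1, 1, 0, 1, 0, 0, 0, 0, 0, 0]),
    (.cnj 4 [5, 5] [], [0, 0, 0, 1, 1, 1, 0, 0, 0, 0, 0, 0, 0, 0, 0, 0, 0, 0, 0, 0, 0, 0, 1, 1, 0, 1, 1, 0, 0, 0, 0, 0, 0, 0])]
  lam := [[], [], [0, 0, 0, 0, 0, 0, 0, 1, 0, 1], [], [1, 0, 0, 0, 0, 0, 0, 1, 0, 1], [1, 0, 1, 0, 0, 0, 0, 1], [0, 0, 1]]
  combos := [[],
    [(0, 1), (1, 1), (2, 1), (3, 1), (5, 1), (10, 1), (13, 1), (14, 1), (15, 1), (16, 1), (18, 1)],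
    [],
    [(2, 1), (4, 1), (11, 1), (12, 1), (17, 1), (23, 1)],
    [(0, 1), (1, 1), (3, 1), (4, 1), (5, 1), (8, 1), (10, 1), (11, 1), (14, 1), (15, 1), (16, 1), (19, 1)],
    [(3, 1), (8, 1), (9, 1), (11, 1), (12, 1), (14, 1), (15, 1), (16, 1)],
    [(2, 1), (4, 1), (6, 1), (9, 1)],
    [],
    [(0, 1), (2, 1), (3, 1), (6, 1), (7, 1), (10, 1), (15, 1), (16, 1), (18, 1), (19, 1), (20, 1), (21, 1)],
    [],
    [(0, 1), (1, 1), (3, 1), (6, 1), (9, 1), (10, 1), (11, 1), (13, 1), (14, 1), (15, 1), (16, 1), (18, 1), (19, 1), (20, 1), (21, 1)],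
    [(4, 1), (6, 1), (8, 1), (9, 1), (11, 1), (13, 1), (19, 1), (20, 1)],
    [(0, 1), (1, 1), (4, 1), (5, 1), (6, 1), (7, 1), (9, 1), (10, 1), (12, 1), (13, 1), (14, 1)],
    [(0, 1), (1, 1), (4, 1), (5, 1), (7, 1), (8, 1), (11, 1)],
    [(0, 1), (1, 1), (3, 1), (4, 1), (5, 1), (7, 1), (12, 1), (13, 1), (15, 1), (16, 1), (17, 1), (18, 1), (19, 1), (20, 1), (21, 1), (22, 1)],
    [(0, 1), (1, 1), (2, 1), (3, 1), (5, 1), (7, 1), (10, 1), (11, 1), (14, 1), (15, 1), (16, 1), (19, 1)],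
    [(2, 1), (4, 1), (5, 1), (6, 1), (8, 1), (9, 1), (10, 1), (12, 1), (13, 1), (14, 1), (19, 1), (20, 1)],
    [(2, 1), (4, 1), (6, 1), (7, 1), (9, 1)],
    [(3, 1), (4, 1), (7, 1), (12, 1), (13, 1), (14, 1), (16, 1), (17, 1), (18, 1), (21, 1)],
    [(3, 1), (9, 1), (12, 1), (13, 1), (14, 1), (15, 1), (16, 1), (19, 1), (20, 1)],
    [(3, 1), (8, 1), (10, 1), (14, 1), (15, 1), (16, 1)],
    [(9, 1)],
    [(0, 1), (1, 1), (3, 1), (8, 1), (9, 1), (10, 1), (12, 1), (14, 1), (15, 1), (17, 1), (19, 1)],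
    [(0, 1), (1, 1), (5, 1), (6, 1), (7, 1), (9, 1), (11, 1), (13, 1), (14, 1), (16, 1)],
    [(2, 1), (4, 1), (6, 1), (9, 1), (12, 1)],
    [(0, 1), (1, 1), (2, 1), (3, 1), (7, 1), (8, 1), (12, 1), (13, 1), (15, 1), (16, 1)],
    [(6, 1), (9, 1)],
    [(11, 1)]]

theorem gen : cert.genOK K = true := by decide +kernel

theorem rel0 : (piece cert.rules 12 0).all (cert.ruleF K) = true := by decide +kernel

theorem rel1 : (piece cert.rules 12 1).all (cert.ruleF K) = true := by decide +kernel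

theorem rel2 : (piece cert.rules 12 2).all (cert.ruleF K) = true := by decide +kernel

theorem rel_conj : (List.range cert.conjs.length).all (cert.cnjF K) = true := by decide +kernel

theorem rel : cert.relOK K = true := by
  refine Cert.relOK_of K cert (all_of_pieces _ 12 3 _ (fun i hi => ?_) (by decide +kernel)) rel_conj
  interval_cases i
  · exact rel0
  · exact rel1
  · exact rel2

theorem pcs : cert.pcOK 2 = true := by decide +kernel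

theorem rows : cert.rowsOK K 2 = true := by decide +kernel

theorem target : cert.targetOK 2 = true := by decide +kernel

theorem core : cert.Core K 2 := ⟨gen, rel, pcs, rows, target⟩

/-- transversal levels of the Sylow subgroup -/
def levels : List (ℕ × List (List ℕ)) := [
  (33, [[], [0], [1], [2], [3], [4], [6], [0, 0], [1, 0], [2, 0], [3, 0], [4, 0], [5, 0], [6, 0], [0, 1], [2, 1], [3, 1], [4, 1], [5, 1], [6, 1], [0, 2], [1, 2], [3, 2], [4, 2], [5, 2], [0, 3], [1, 3], [4, 3], [6, 3], [1, 4], [3, 4], [6, 4], [0, 0, 0], [1, 0, 0], [5, 0, 0], [2, 1, 0], [3, 1, 0], [4, 1, 0], [5, 1, 0], [6, 1, 0], [1, 2, 0], [4, 2, 0], [5, 2, 0], [6, 2, 0], [1, 3, 0], [2, 3, 0], [5, 3, 0], [6, 3, 0], [0, 4, 0], [1, 4, 0], [0, 5, 0], [3, 0, 1], [4, 0, 1], [5, 0, 1], [3, 2, 1], [5, 2, 1], [2, 3, 1], [6, 3, 1], [0, 5, 1], [1, 0, 2], [4, 0, 2], [5, 1, 2],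 [1, 5, 0, 0], [3, 4, 1, 0]]),
  (1, [[], [5, 3]])]

theorem levels_ok : Cert.levelsOK K cert appP Nat.beq levels [] = true := by decide +kernel

theorem primeCond {F : Type*} [Field F] [Fintype F] {ω : F} (h : Four F ω) {m : ℕ}
    (hN : Nat.card (threeJ3 F ω) = 2 ^ 7 * m) (hm : ¬ 2 ∣ m) :
    haveI : Fact (Nat.Prime 2) := ⟨by norm_num⟩; PrimeCond (threeJ3 F ω) 2 :=
  haveI : Fact (Nat.Prime 2) := ⟨by norm_num⟩
  primeCond_of_tables h cert core levels levels_ok (by decide) hN hm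

end CfsgLib.KnownB.Mult.J3.P2
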