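import Cfsg.Agent.Lib.KnownB.Mult.J3.P3Table

/-! Certificate at 3 for the multiplier of 3·J₃. -/

set_option autoImplicit false
set_option maxRecDepth 100000
set_option Elab.async false

namespace CfsgLib.KnownB.Mult.J3.P3

open CfsgLib.KnownB.Mult Cfsg.Spor CfsgLib.LocalEven.J3Lines

/-- the certificate -/
def cert : Cert (List ℕ) where
  n := 6
  σ := [[4, 8, 16, 32, 1, 2, 256, 512, 3072, 1024, 64, 128, 16384, 32768, 131072, 196608, 4096, 8192],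
    [64, 128, 256, 512, 1024, 2048, 4096, 8192, 32768, 49152, 196608, 65536, 1, 2, 4, 8, 16, 32],
    [1, 2, 8, 12, 32, 48, 128, 192, 768, 256, 3072, 1024, 8192, 12288, 49152, 16384, 196608, 65536],
    [1, 2, 8, 12, 48, 16, 64, 128, 512, 768, 3072, 1024, 4096, 8192, 32768, 49152, 196608, 65536],
    [1, 2, 4, 8, 16, 32, 128, 192, 512, 768, 2048, 3072, 12288, 4096, 49152, 16384, 196608, 65536],
    [3, 1, 12, 4, 48, 16, 192, 64, 768, 256, 3072, 1024, 12288, 4096, 49152, 16384, 196608, 65536]]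
  rules := [([0, 0, 0], [4, 4]),
    ([1, 1, 1], [3]),
    ([2, 2, 2], []),
    ([3, 3, 3], []),
    ([4, 4, 4], []),
    ([5, 5, 5], []),
    ([1, 0], [0, 1, 2, 2, 3, 3, 4, 4]),
    ([2, 0], [0, 2, 3, 3, 5, 5]),
    ([3, 0], [0, 3, 5, 5]),
    ([4, 0], [0, 4]),
    ([5, 0], [0, 5]),
    ([2, 1], [1, 2, 4, 4, 5, 5]),
    ([3, 1], [1, 3]),
    ([4, 1], [1, 4, 5, 5]),
    ([5, 1], [1, 5]),
    ([3, 2], [2, 3]),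
    ([4, 2], [2, 4]),
    ([5, 2], [2, 5]),
    ([4, 3], [3, 4]),
    ([5, 3], [3, 5]),
    ([5, 4], [4, 5])]
  conjs := [([196608, 65536, 2048, 3072, 48, 16, 4096, 8192, 128, 192, 1, 2, 49152, 16384, 512, 768, 4, 8], [5], [5]),
    ([196608, 65536, 2048, 3072, 48, 16, 4096, 8192, 128, 192, 1, 2, 49152, 16384, 512, 768, 4, 8], [4, 5], [3]),
    ([196608, 65536, 2048, 3072, 48, 16, 4096, 8192, 128, 192, 1, 2, 49152, 16384, 512, 768, 4, 8], [0], [1, 1, 2]),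
    ([196608, 65536, 2048, 3072, 48, 16, 4096, 8192, 128, 192, 1, 2, 49152, 16384, 512, 768, 4, 8], [0, 0, 2], [1]),
    ([196608, 65536, 2048, 3072, 48, 16, 4096, 8192, 128, 192, 1, 2, 49152, 16384, 512, 768, 4, 8], [1, 4], [0, 2, 4]),
    ([196608, 65536, 2048, 3072, 48, 16, 4096, 8192, 128, 192, 1, 2, 49152, 16384, 512, 768, 4, 8], [3], [4, 4, 5]),
    ([192, 64, 12288, 4096, 2, 3, 2048, 3072, 65536, 131072, 16, 32, 768, 256, 16384, 32768, 8, 12], [5], [5]),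
    ([192, 64, 12288, 4096, 2, 3, 2048, 3072, 65536, 131072, 16, 32, 768, 256, 16384, 32768, 8, 12], [0, 3], [1]),
    ([192, 64, 12288, 4096, 2, 3, 2048, 3072, 65536, 131072, 16, 32, 768, 256, 16384, 32768, 8, 12], [3], [4, 5]),
    ([192, 64, 12288, 4096, 2, 3, 2048, 3072, 65536, 131072, 16, 32, 768, 256, 16384, 32768, 8, 12], [2, 5], [2, 4]),
    ([192, 64, 12288, 4096, 2, 3, 2048, 3072, 65536, 131072, 16, 32, 768, 256, 16384, 32768, 8, 12], [1], [0, 0, 2, 5]),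
    ([192, 64, 12288, 4096, 2, 3, 2048, 3072, 65536, 131072, 16, 32, 768, 256, 16384, 32768, 8, 12], [4], [3, 3])]
  rows := [(.ovl [0] 0 [], [0, 0, 0, 0, 0, 0, 0, 0, 0, 2]),
    (.ovl [1] 0 [], [0, 0, 2, 1, 2, 0, 0, 0, 1, 0, 2, 0, 0, 2, 0, 2, 0, 2, 2, 2, 0]),
    (.ovl [2] 0 [], [0, 0, 0, 2, 0, 1, 0, 0, 0, 0, 1, 0, 0, 0, 0, 0, 2, 0, 0, 2]),
    (.ovl [3] 0 [], [0, 0, 0, 0, 0, 2, 0, 0, 0, 0, 0, 0, 0, 0, 0, 0, 0, 0, 2]),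
    (.ovl [5] 0 [], [0, 0, 0, 0, 0, 0, 0, 0, 0, 0, 0, 0, 0, 0, 0, 0, 0, 0, 0, 0, 1]),
    (.ovl [1] 1 [], [0, 0, 0, 0, 0, 0, 0, 0, 0, 0, 0, 0, 1]),
    (.ovl [2] 1 [], [0, 0, 0, 0, 2, 1, 0, 0, 0, 0, 0, 0, 0, 0, 1, 1, 0, 0, 0, 0, 2]),
    (.ovl [5] 1 [], [0, 0, 0, 0, 0, 0, 0, 0, 0, 0, 0, 0, 0, 0, 0, 0, 0, 0, 0, 2]),
    (.ovl [2] 6 [], [0, 0, 0, 0, 0, 0, 0, 0, 0, 2, 2, 0, 1, 0, 1, 1, 1, 1, 2, 0, 2]),
    (.ovl [3] 6 [], [0, 0, 0, 0, 0, 0, 0, 0, 0, 0, 0, 0, 0, 0, 1, 1, 0, 2, 2, 2, 2]),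
    (.ovl [4] 6 [], [0, 0, 0, 0, 0, 0, 0, 0, 0, 0, 2, 0, 0, 0, 0, 0, 1, 2, 1, 2, 2]),
    (.ovl [5] 6 [], [0, 0, 0, 0, 0, 0, 0, 0, 0, 0, 0, 0, 0, 0, 0, 0, 0, 1, 0, 1, 1]),
    (.cnj 0 [2, 0] [0, 2], [0, 0, 0, 0, 0, 0, 0, 0, 0, 0, 1, 0, 0, 0, 1, 0, 0, 2, 0, 0, 0, 0, 0, 0]),
    (.cnj 0 [0, 1, 4] [4, 1], [0, 0, 0, 0, 0, 0, 0, 0, 1, 0, 1, 0, 0, 2, 1, 1, 0, 0, 2, 1, 1, 1, 0, 0, 0, 0]),
    (.cnj 0 [3, 3, 3] [1], [1, 1, 2, 2, 2, 2, 0, 0, 1, 0, 0, 0, 0, 0, 0, 1, 0, 2, 2, 2, 2, 0, 2, 0, 0]),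
    (.cnj 0 [3, 5, 2] [0, 2, 3], [0, 0, 0, 2, 0, 1, 0, 2, 2, 0, 0, 2, 0, 1, 0, 0, 2, 0, 0, 1, 1, 2, 0, 0, 0, 0, 1]),
    (.cnj 0 [4, 4, 4] [5], [1, 2, 1, 2, 0, 1, 0, 0, 2, 0, 2, 0, 0, 0, 1, 1, 0, 2, 0, 2, 2, 0, 0, 0, 0, 0, 2]),
    (.cnj 0 [1, 2, 2, 2] [0], [2, 2, 1, 1, 0, 1, 0, 0, 0, 0, 0, 0, 0, 2, 0, 0, 2, 1, 1, 1, 1, 2, 1, 0]),
    (.cnj 6 [7, 6] [6, 7], [0, 0, 0, 0, 0, 0, 0, 0, 0, 0, 1, 0, 0, 0, 2, 0, 0, 0, 0, 1, 0, 0, 0, 0, 0, 0, 0, 0, 0]),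
    (.cnj 6 [6, 8, 7] [7, 8], [0, 0, 0, 0, 0, 0, 0, 0, 2, 0, 2, 0, 0, 1, 2, 0, 0, 0, 0, 2, 1, 0, 0, 0, 0, 0, 0, 1, 0, 0]),
    (.cnj 6 [8, 9, 7] [6, 7, 9], [0, 0, 0, 2, 1, 1, 0, 2, 2, 0, 0, 1, 0, 2, 0, 0, 1, 1, 0, 0, 0, 0, 0, 0, 0, 0, 0, 2, 0, 1, 0]),
    (.cnj 6 [10, 10, 10] [8], [2, 2, 1, 1, 1, 2, 0, 0, 2, 0, 0, 0, 0, 0, 0, 2, 0, 1, 1, 1, 1, 0, 0, 0, 0, 0, 0, 0, 0, 2, 0, 0])]
  lam := [[], [], [1, 2, 0, 0, 0, 0, 2], [0, 1], [2], [0, 2, 0, 0, 0, 0, 0, 2]]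
  combos := [[],
    [],
    [(1, 1), (2, 1), (3, 2), (6, 1), (7, 1), (9, 1), (10, 2), (12, 2), (13, 1), (14, 1), (17, 1), (18, 2)],
    [(2, 1), (3, 1), (7, 2), (10, 1), (11, 1)],
    [(3, 1), (4, 1), (6, 1), (9, 2), (11, 2)],
    [(0, 1), (3, 1), (4, 1), (5, 1), (7, 1), (8, 2), (9, 1), (10, 1)],
    [],
    [],
    [(0, 1), (1, 2), (4, 2), (5, 1), (6, 1), (8, 2), (11, 2), (14, 2), (15, 1), (16, 1), (17, 2), (19, 1), (20, 1), (21, 1)],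
    [(0, 1)],
    [(4, 2), (7, 2), (11, 1), (12, 1), (18, 1)],
    [(0, 2), (1, 2), (2, 2), (3, 2), (5, 2), (8, 1), (9, 2), (10, 1), (11, 1), (12, 1), (13, 2), (14, 2), (17, 2), (18, 1), (19, 2), (20, 2), (21, 2)],
    [(5, 2)],
    [(1, 2), (3, 1), (4, 2), (6, 2), (7, 1), (10, 1), (12, 1), (13, 2), (14, 1), (15, 1), (16, 1), (17, 1), (18, 2), (19, 1), (20, 1), (21, 1)],
    [(4, 2), (11, 1), (12, 1), (18, 2)],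
    [(0, 2), (5, 2), (7, 2), (8, 1), (9, 1), (10, 2), (11, 1), (12, 2), (18, 1)],
    [(0, 1), (5, 1), (8, 2), (9, 1), (12, 1), (18, 1)],
    [(4, 1), (7, 2), (11, 2)],
    [(0, 2), (4, 2), (5, 2), (7, 2), (8, 1), (9, 2), (10, 2)],
    [(7, 1)],
    [(4, 2)]]

theorem gen : cert.genOK K = true := by decide +kernel

theorem rel0 : (piece cert.rules 12 0).all (cert.ruleF K) = true := by decide +kernel

theorem rel1 : (piece cert.rules 12 1).all (cert.ruleF K) = true := by decide +kernel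

theorem rel_conj : (List.range cert.conjs.length).all (cert.cnjF K) = true := by decide +kernel

theorem rel : cert.relOK K = true := by
  refine Cert.relOK_of K cert (all_of_pieces _ 12 2 _ (fun i hi => ?_) (by decide +kernel)) rel_conj
  interval_cases i
  · exact rel0
  · exact rel1

theorem pcs : cert.pcOK 3 = true := by decide +kernel

theorem rows : cert.rowsOK K 3 = true := by decide +kernel

theorem target : cert.targetOK 3 = true := by decide +kernel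

theorem core : cert.Core K 3 := ⟨gen, rel, pcs, rows, target⟩

/-- transversal levels of the Sylow subgroup -/
def levels : List (ℕ × List (List ℕ)) := [
  (5, [[], [0], [1], [2], [5], [0, 0], [1, 0], [2, 0], [3, 0], [5, 0], [0, 1], [1, 1], [2, 1], [3, 1], [4, 1], [5, 1], [0, 2], [2, 2], [5, 2], [5, 5], [1, 0, 0], [2, 0, 0], [3, 0, 0], [5, 0, 0], [0, 1, 0], [1, 1, 0], [2, 1, 0], [3, 1, 0], [4, 1, 0], [0, 2, 0], [3, 2, 0], [0, 3, 0], [3, 3, 0], [0, 0, 1], [1, 0, 1], [2, 0, 1], [4, 0, 1], [0, 1, 1], [2, 1, 1], [3, 1, 1], [4, 1, 1], [2, 2, 1], [3, 2, 1], [4, 2, 1], [3, 3, 1], [1, 4, 1], [0, 0, 2], [1, 0, 2], [3, 0, 2], [0, 2, 2], [5, 2, 2], [5, 5, 2], [1, 1, 0, 0], [2, 1, 0, 0], [4, 1, 0, 0], [0, 2, 0, 0], [1, 2, 0, 0], [5, 2, 0, 0], [1, 0, 1, 0], [4, 0, 1, 0], [5, 0, 1, 0], [0, 1, 1, 0], [2, 1, 1, 0], [3, 1,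 1, 0], [0, 3, 1, 0], [4, 3, 1, 0], [1, 4, 1, 0], [2, 0, 2, 0], [1, 0, 0, 1], [0, 1, 0, 1], [2, 1, 0, 1], [1, 4, 0, 1], [2, 2, 1, 1], [3, 2, 1, 1], [3, 3, 1, 1], [4, 3, 1, 1], [0, 1, 4, 1], [2, 1, 1, 0, 0], [1, 4, 1, 0, 0], [1, 1, 2, 0, 0], [4, 1, 0, 1, 0]]),
  (80, [[], [4], [4, 4], [3, 2, 2], [3, 3, 2], [4, 3, 2, 2], [4, 3, 3, 2], [0, 3, 2, 0, 0], [4, 4, 3, 2, 2]])]

theorem levels_ok : Cert.levelsOK K cert appP Nat.beq levels [] = true := by decide +kernel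

theorem primeCond {F : Type*} [Field F] [Fintype F] {ω : F} (h : Four F ω) {m : ℕ}
    (hN : Nat.card (threeJ3 F ω) = 3 ^ 6 * m) (hm : ¬ 3 ∣ m) :
    haveI : Fact (Nat.Prime 3) := ⟨by norm_num⟩; PrimeCond (threeJ3 F ω) 3 :=
  haveI : Fact (Nat.Prime 3) := ⟨by norm_num⟩
  primeCond_of_tables h cert core levels levels_ok (by decide) hN hm

end CfsgLib.KnownB.Mult.J3.P3
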